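import Cfsg.Agent.H539.Lim.Defs

/-!
# Localization for coefficient systems (S5242, piece F3; helper118)

`Coef.van_of_local` (plan `tools/plans/S5242.md`, A5 for `Coef`).
-/

set_option autoImplicit false

namespace Cfsg.Agent.H118.Lim

open MulAction Cfsg.Agent.H539.Lim

universe u v w

section Basic

variable {G : Type u} [Group G] {Ω : Type v} [MulAction G Ω]

theorem mem_Nz {Y : Subgroup G} {g : G} : g ∈ Nz Y ↔ cj g Y = Y := Subgroup.mem_normalizer_iff_map_conj_eq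

theorem cj_cj (g h : G) (P : Subgroup G) : cj g (cj h P) = cj (g * h) P := by
  unfold cj
  rw [Subgroup.map_map]
  congr 1
  ext x
  simp [mul_assoc]

theorem cj_one (P : Subgroup G) : cj 1 P = P := by
  ext x
  simp [cj]

theorem cj_inv_cj (g : G) (P : Subgroup G) : cj g⁻¹ (cj g P) = P := by
  rw [cj_cj, inv_mul_cancel, cj_one]

theorem cj_mem_iff {V : Set (Subgroup G)} (hVi : IsInv V) (g : G) (P : Subgroup G) : cj g P ∈ V ↔ P ∈ V :=
  ⟨fun h => by rw [← cj_inv_cj g P]; exact hVi g⁻¹ _ h, fun h => hVi g P h⟩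

theorem st_smul {k : ℕ} (g : G) (x : Fin k → Ω) : st G (g • x) = cj g (st G x) :=
  stabilizer_smul_eq_stabilizer_map_conj g x

theorem cj_of_mem {g : G} {P : Subgroup G} (hg : g ∈ P) : cj g P = P :=
  mem_Nz.1 (Subgroup.le_normalizer hg)

/-- `X P` is normalized by `P` -/
theorem le_Nz {V : Set (Subgroup G)} {X : Subgroup G → Subgroup G}
    (h2 : ∀ (g : G), ∀ P ∈ V, X (cj g P) = cj g (X P)) {P : Subgroup G} (hP : P ∈ V) : P ≤ Nz (X P) := by
  intro g hg
  rw [mem_Nz, ← h2 g P hP, cj_of_mem hg]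

theorem map_st (Y : Subgroup G) {k : ℕ} (y : Fin k → FixPt Y Ω) :
    (st ↥(Nz Y) y).map (Nz Y).subtype = Nz Y ⊓ st G (fun i => (y i).1) := by
  ext g
  constructor
  · rintro ⟨n, hn, rfl⟩
    refine ⟨n.2, ?_⟩
    change (n : G) ∈ st G (fun i => (y i).1)
    rw [mem_stabilizer_iff]
    funext i
    have h1 := congrFun (mem_stabilizer_iff.1 hn) i
    exact congrArg Subtype.val h1
  · rintro ⟨h1, h2⟩
    refine ⟨⟨g, h1⟩, ?_, rfl⟩
    change _ ∈ st ↥(Nz Y) y
    rw [mem_stabilizer_iff]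
    funext i
    apply Subtype.ext
    exact congrFun (mem_stabilizer_iff.1 h2) i

theorem map_st_le (Y : Subgroup G) {k : ℕ} (y : Fin k → FixPt Y Ω) :
    (st ↥(Nz Y) y).map (Nz Y).subtype ≤ st G (fun i => (y i).1) := by
  rw [map_st]
  exact inf_le_right

/-- the stabilizer of a nonempty tuple is a `p`-group -/
theorem isPGroup_st {p : ℕ} (hΩ : PSet p G Ω) {k : ℕ} (x : Fin (k + 1) → Ω) : IsPGroup p (st G x) :=
  (hΩ.pgroup (x 0)).to_le fun g hg => by
    rw [mem_stabilizer_iff] at hg ⊢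
    exact congrFun hg 0

/-- (i) of A5 -/
theorem st_eq {p : ℕ} [Fact p.Prime] [Finite G] (hΩ : PSet p G Ω) {V : Set (Subgroup G)}
    {X : Subgroup G → Subgroup G} (h2 : ∀ (g : G), ∀ P ∈ V, X (cj g P) = cj g (X P)) {Y : Subgroup G} {k : ℕ}
    (y : Fin (k + 1) → FixPt Y Ω) (hV : (st ↥(Nz Y) y).map (Nz Y).subtype ∈ V)
    (hX : X ((st ↥(Nz Y) y).map (Nz Y).subtype) = Y) :
    st G (fun i => (y i).1) = (st ↥(Nz Y) y).map (Nz Y).subtype := by
  set P := (st ↥(Nz Y) y).map (Nz Y).subtype with hP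
  set S := st G (fun i => (y i).1) with hS
  have hPS : P = Nz Y ⊓ S := map_st Y y
  have hle : P ≤ S := map_st_le Y y
  have hSp : IsPGroup p S := isPGroup_st hΩ _
  have : Group.IsNilpotent S := hSp.isNilpotent
  have hnc := normalizerCondition_iff_only_full_group_self_normalizing.1 (Group.normalizerCondition_of_isNilpotent (G := S))
    (P.subgroupOf S) (by
      apply le_antisymm _ Subgroup.le_normalizer
      intro g hg
      rw [Subgroup.mem_normalizer_iff_map_conj_eq] at hg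
      rw [Subgroup.mem_subgroupOf, hPS]
      refine ⟨?_, g.2⟩
      have h4 : cj (g : G) P = P := by
        have h5 : (P.subgroupOf S).map S.subtype = P := by
          rw [Subgroup.map_subgroupOf_eq_of_le hle]
        conv_lhs => rw [← h5]
        conv_rhs => rw [← h5, ← hg]
        unfold cj
        rw [Subgroup.map_map, Subgroup.map_map]
        congr 1
      refine mem_Nz.2 ?_
      conv_lhs => rw [← hX, ← h2 _ _ hV, h4, hX])
  rw [Subgroup.subgroupOf_eq_top] at hnc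
  exact le_antisymm hnc hle

end Basic

section Coef

variable {G : Type u} [Group G] {Ω : Type v} [MulAction G Ω] (C : Coef.{u, w} G)

theorem tau_congr {k : ℕ} {P : Subgroup G} {g g' : G} (hg : g = g') {x x' : Fin k → Ω} (hx : x = x')
    (β : ∀ x : Fin k → Ω, C.M (st G x)) (h : ∀ u ∈ P, g * u * g⁻¹ ∈ st G x)
    (h' : ∀ u ∈ P, g' * u * g'⁻¹ ∈ st G x') : C.τ g P (st G x) h (β x) = C.τ g' P (st G x') h' (β x') := by
  subst hg
  subst hx
  rfl

theorem res_res {P Q R : Subgroup G} (h : P ≤ Q) (h' : Q ≤ R) (m : C.M R) :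
    C.res h (C.res h' m) = C.res (h.trans h') m := by
  unfold Coef.res
  rw [C.τ_comp _ _ _ _ _ _ _ (fun u hu => by simpa using h' (h hu))]
  congr 1
  simp

theorem res_self {P : Subgroup G} (h : P ≤ P) (m : C.M P) : C.res h m = m :=
  C.τ_inner P 1 P.one_mem _ m

/-- transport of a family by `g` -/
def pull (g : G) {k : ℕ} (β : ∀ x : Fin k → Ω, C.M (st G x)) (x : Fin k → Ω) : C.M (st G x) :=
  C.τ g (st G x) (st G (g • x)) (Coef.conj_st G g x) (β (g • x))

theorem pull_pull (g h : G) {k : ℕ} (β : ∀ x : Fin k → Ω, C.M (st G x)) :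
    pull C g (pull C h β) = pull C (h * g) β := by
  funext x
  unfold pull
  rw [C.τ_comp g h _ _ _ _ _ (fun u hu => by
    rw [smul_smul]
    exact Coef.conj_st G (h * g) x u hu)]
  exact tau_congr C rfl (smul_smul h g x) β _ _

theorem dd_pull (g : G) {k : ℕ} (β : ∀ x : Fin k → Ω, C.M (st G x)) (x : Fin (k + 1) → Ω) :
    C.dd (pull C g β) x = pull C g (C.dd β) x := by
  unfold Coef.dd pull
  rw [map_sum]
  refine Finset.sum_congr rfl fun i _ => ?_
  rw [map_zsmul]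
  congr 1
  unfold Coef.res
  have hle : ∀ u ∈ st G x, (g * 1) * u * (g * 1)⁻¹ ∈ st G (g • fun j => x (i.succAbove j)) := fun u hu => by
    rw [mul_one]
    exact Coef.conj_st G g _ u (Coef.st_succAbove_le G x i hu)
  have hle' : ∀ u ∈ st G x, (1 * g) * u * (1 * g)⁻¹ ∈ st G (fun j => (g • x) (i.succAbove j)) := fun u hu => by
    rw [one_mul]
    exact Coef.conj_st G g _ u (Coef.st_succAbove_le G x i hu)
  rw [C.τ_comp _ _ _ _ _ _ _ hle, C.τ_comp _ _ _ _ _ _ _ hle']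
  exact tau_congr C (by rw [mul_one, one_mul]) rfl β _ _

theorem tau_congr' {ι : Type*} {g g' : G} (hg : g = g') {P : Subgroup G} (S : ι → Subgroup G)
    (β : ∀ i, C.M (S i)) {i i' : ι} (hi : i = i') (h : ∀ u ∈ P, g * u * g⁻¹ ∈ S i)
    (h' : ∀ u ∈ P, g' * u * g'⁻¹ ∈ S i') : C.τ g P (S i) h (β i) = C.τ g' P (S i') h' (β i') := by
  subst hg
  subst hi
  rfl

end Coef

section Main

variable {G : Type u} [Group G] {Ω : Type v} [MulAction G Ω] (C : Coef.{u, w} G)

/-- the local collection -/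
def W (V : Set (Subgroup G)) (X : Subgroup G → Subgroup G) (Y : Subgroup G) : Set (Subgroup ↥(Nz Y)) :=
  {Q | Q.map (Nz Y).subtype ∈ V ∧ X (Q.map (Nz Y).subtype) = Y}

/-- the tuple of fixed points -/
def lift {Y : Subgroup G} {k : ℕ} (x : Fin k → Ω) (h : Y ≤ st G x) : Fin k → FixPt Y Ω := fun i =>
  ⟨x i, fun g hg => by
    have h1 := mem_stabilizer_iff.1 (h hg)
    rw [mem_stabilizer_iff]
    exact congrFun h1 i⟩

theorem st_le_map {Y : Subgroup G} {k : ℕ} (x : Fin k → Ω) (h : Y ≤ st G x) (hN : st G x ≤ Nz Y) :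
    st G x ≤ (st ↥(Nz Y) (lift x h)).map (Nz Y).subtype := by
  rw [map_st]
  exact le_inf hN le_rfl

theorem map_cj {Y : Subgroup G} (n : ↥(Nz Y)) (Q : Subgroup ↥(Nz Y)) :
    (cj n Q).map (Nz Y).subtype = cj (n : G) (Q.map (Nz Y).subtype) := by
  unfold cj
  rw [Subgroup.map_map, Subgroup.map_map]
  congr 1

section

variable {V : Set (Subgroup G)} {X : Subgroup G → Subgroup G} {Y : Subgroup G}

theorem cj_mem_W (hVi : IsInv V) (h2 : ∀ (g : G), ∀ P ∈ V, X (cj g P) = cj g (X P)) : IsInv (W V X Y) := by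
  rintro n Q ⟨hQ1, hQ2⟩
  refine ⟨?_, ?_⟩
  · rw [map_cj]
    exact hVi _ _ hQ1
  · rw [map_cj, h2 _ _ hQ1, hQ2]
    exact mem_Nz.1 n.2

theorem good_smul (hVi : IsInv V) (h2 : ∀ (g : G), ∀ P ∈ V, X (cj g P) = cj g (X P)) {k : ℕ} {x : Fin k → Ω}
    {g : G} (hg : g ∈ Nz Y) (h : st G x ∈ V ∧ X (st G x) = Y) : st G (g • x) ∈ V ∧ X (st G (g • x)) = Y := by
  rw [st_smul]
  refine ⟨hVi _ _ h.1, ?_⟩
  rw [h2 _ _ h.1, h.2]
  exact mem_Nz.1 hg

theorem mem_W_of_good (h2 : ∀ (g : G), ∀ P ∈ V, X (cj g P) = cj g (X P)) {k : ℕ} (y : Fin k → FixPt Y Ω)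
    (h : st G (fun i => (y i).1) ∈ V ∧ X (st G (fun i => (y i).1)) = Y) : st ↥(Nz Y) y ∈ W V X Y := by
  have h1 : st G (fun i => (y i).1) ≤ Nz Y := by
    have := le_Nz h2 h.1
    rwa [h.2] at this
  have h3 : (st ↥(Nz Y) y).map (Nz Y).subtype = st G (fun i => (y i).1) := by
    rw [map_st, inf_eq_right.2 h1]
  refine ⟨?_, ?_⟩
  · rw [h3]; exact h.1
  · rw [h3]; exact h.2

theorem good_of_mem_W {p : ℕ} [Fact p.Prime] [Finite G] (hΩ : PSet p G Ω)
    (h2 : ∀ (g : G), ∀ P ∈ V, X (cj g P) = cj g (X P)) {k : ℕ} (y : Fin (k + 1) → FixPt Y Ω)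
    (h : st ↥(Nz Y) y ∈ W V X Y) : st G (fun i => (y i).1) ∈ V ∧ X (st G (fun i => (y i).1)) = Y := by
  rw [st_eq hΩ h2 y h.1 h.2]
  exact h

open Classical in
/-- the local cochain -/
noncomputable def loc (V : Set (Subgroup G)) (X : Subgroup G → Subgroup G) (Y : Subgroup G) {k : ℕ}
    (c : ∀ x : Fin k → Ω, C.M (st G x)) (y : Fin k → FixPt Y Ω) : C.M ((st ↥(Nz Y) y).map (Nz Y).subtype) :=
  if st ↥(Nz Y) y ∈ W V X Y then C.res (map_st_le Y y) (c (fun i => (y i).1)) else 0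

theorem loc_coch (hVi : IsInv V) (h2 : ∀ (g : G), ∀ P ∈ V, X (cj g P) = cj g (X P)) {k : ℕ}
    {c : ∀ x : Fin k → Ω, C.M (st G x)} (hc : C.IsCoch V c) :
    (C.restr (Nz Y)).IsCoch (W V X Y) (loc C V X Y c) := by
  classical
  refine ⟨fun n y => ?_, fun y hy => if_neg hy⟩
  change C.τ (n : G) _ _ _ (loc C V X Y c (n • y)) = loc C V X Y c y
  by_cases h : st ↥(Nz Y) y ∈ W V X Y
  · have h' : st ↥(Nz Y) (n • y) ∈ W V X Y := by
      rw [st_smul]
      exact cj_mem_W hVi h2 _ _ h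
    unfold loc
    rw [if_pos h, if_pos h']
    unfold Coef.res
    rw [← hc.equiv (n : G) (fun i => (y i).1)]
    have hle : ∀ u ∈ (st ↥(Nz Y) y).map (Nz Y).subtype, (1 * (n : G)) * u * (1 * (n : G))⁻¹ ∈
        st G (fun i => ((n • y) i).1) := fun u hu => by
      rw [one_mul]
      exact Coef.conj_st G (n : G) _ u (map_st_le Y y hu)
    have hle' : ∀ u ∈ (st ↥(Nz Y) y).map (Nz Y).subtype, ((n : G) * 1) * u * ((n : G) * 1)⁻¹ ∈
        st G ((n : G) • fun i => (y i).1) := fun u hu => by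
      rw [mul_one]
      exact Coef.conj_st G (n : G) _ u (map_st_le Y y hu)
    rw [C.τ_comp _ _ _ _ _ _ _ hle, C.τ_comp _ _ _ _ _ _ _ hle']
    exact tau_congr C (by rw [mul_one, one_mul]) rfl c _ _
  · have h' : st ↥(Nz Y) (n • y) ∉ W V X Y := by
      rw [st_smul, cj_mem_iff (cj_mem_W hVi h2)]
      exact h
    unfold loc
    rw [if_neg h, if_neg h', map_zero]

theorem loc_dd {p : ℕ} [Fact p.Prime] [Finite G] (hΩ : PSet p G Ω)
    (h2 : ∀ (g : G), ∀ P ∈ V, X (cj g P) = cj g (X P)) (h3 : ∀ P ∈ V, ∀ Q ∈ V, P ≤ Q → X P = X Q) {k : ℕ}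
    {c : ∀ x : Fin k → Ω, C.M (st G x)} (hc : C.IsCoch V c) (y : Fin (k + 1) → FixPt Y Ω)
    (hy : st ↥(Nz Y) y ∈ W V X Y) :
    (C.restr (Nz Y)).dd (loc C V X Y c) y = C.res (map_st_le Y y) (C.dd c (fun i => (y i).1)) := by
  classical
  obtain ⟨hg1, hg2⟩ := good_of_mem_W hΩ h2 y hy
  unfold Coef.dd
  rw [map_sum]
  refine Finset.sum_congr rfl fun i _ => ?_
  rw [map_zsmul]
  congr 1
  rw [res_res]
  have hle : (st ↥(Nz Y) y).map (Nz Y).subtype ≤ (st ↥(Nz Y) (fun j => y (i.succAbove j))).map (Nz Y).subtype :=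
    Subgroup.map_mono (Coef.st_succAbove_le ↥(Nz Y) y i)
  change C.res hle (loc C V X Y c (fun j => y (i.succAbove j))) = _
  unfold loc
  by_cases h : st ↥(Nz Y) (fun j => y (i.succAbove j)) ∈ W V X Y
  · rw [if_pos h, res_res]
  · rw [if_neg h, map_zero]
    have h0 : st G (fun j => (y (i.succAbove j)).1) ∉ V := by
      intro hV
      exact h (mem_W_of_good h2 _ ⟨hV, (h3 _ hg1 _ hV (Coef.st_succAbove_le G (fun i => (y i).1) i)).symm.trans hg2⟩)
    rw [hc.supp _ h0, map_zero]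

theorem restr_dd {k : ℕ} (b : ∀ y : Fin k → FixPt Y Ω, C.M ((st ↥(Nz Y) y).map (Nz Y).subtype))
    (y : Fin (k + 1) → FixPt Y Ω) : ((C.restr (Nz Y)).dd b y : C.M ((st ↥(Nz Y) y).map (Nz Y).subtype)) =
      ∑ i : Fin (k + 1), ((-1 : ℤ) ^ (i : ℕ)) •
        C.res (Subgroup.map_mono (Coef.st_succAbove_le ↥(Nz Y) y i)) (b (fun j => y (i.succAbove j))) := rfl

open Classical in
/-- the global family of a local cochain -/
noncomputable def glob (V : Set (Subgroup G)) (X : Subgroup G → Subgroup G) (Y : Subgroup G) {k : ℕ}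
    (b : ∀ y : Fin k → FixPt Y Ω, C.M ((st ↥(Nz Y) y).map (Nz Y).subtype)) (x : Fin k → Ω) : C.M (st G x) :=
  if h : (st G x ∈ V ∧ X (st G x) = Y) ∧ Y ≤ st G x ∧ st G x ≤ Nz Y then
    C.res (st_le_map x h.2.1 h.2.2) (b (lift x h.2.1)) else 0

theorem cond_of_good (h1 : ∀ P ∈ V, X P ≤ P) (h2 : ∀ (g : G), ∀ P ∈ V, X (cj g P) = cj g (X P)) {k : ℕ}
    {x : Fin k → Ω} (h : st G x ∈ V ∧ X (st G x) = Y) :
    (st G x ∈ V ∧ X (st G x) = Y) ∧ Y ≤ st G x ∧ st G x ≤ Nz Y := by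
  refine ⟨h, ?_, ?_⟩
  · have := h1 _ h.1
    rwa [h.2] at this
  · have := le_Nz h2 h.1
    rwa [h.2] at this

theorem glob_supp {k : ℕ} (b : ∀ y : Fin k → FixPt Y Ω, C.M ((st ↥(Nz Y) y).map (Nz Y).subtype)) (x : Fin k → Ω)
    (h : ¬ (st G x ∈ V ∧ X (st G x) = Y)) : glob C V X Y b x = 0 := by
  unfold glob
  rw [dif_neg fun h' => h h'.1]

theorem glob_pull (hVi : IsInv V) (h1 : ∀ P ∈ V, X P ≤ P) (h2 : ∀ (g : G), ∀ P ∈ V, X (cj g P) = cj g (X P))
    {k : ℕ} {b : ∀ y : Fin k → FixPt Y Ω, C.M ((st ↥(Nz Y) y).map (Nz Y).subtype)}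
    (hb : (C.restr (Nz Y)).IsCoch (W V X Y) b) {n : G} (hn : n ∈ Nz Y) :
    pull C n (glob C V X Y b) = glob C V X Y b := by
  classical
  funext x
  by_cases h : st G x ∈ V ∧ X (st G x) = Y
  · have hx := cond_of_good h1 h2 h
    have hx' := cond_of_good h1 h2 (good_smul hVi h2 hn h)
    unfold pull glob
    rw [dif_pos hx, dif_pos hx']
    have h5 := hb.equiv (⟨n, hn⟩ : ↥(Nz Y)) (lift x hx.2.1)
    rw [← h5]
    change C.τ n _ _ _ (C.res _ _) = C.res _ (C.τ n _ _ _ _)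
    unfold Coef.res
    have hle : ∀ u ∈ st G x, (1 * n) * u * (1 * n)⁻¹ ∈
        (st ↥(Nz Y) (lift (n • x) hx'.2.1)).map (Nz Y).subtype := fun u hu => by
      rw [one_mul]
      exact st_le_map _ hx'.2.1 hx'.2.2 (Coef.conj_st G n _ u hu)
    have hle' : ∀ u ∈ st G x, (n * 1) * u * (n * 1)⁻¹ ∈
        (st ↥(Nz Y) ((⟨n, hn⟩ : ↥(Nz Y)) • lift x hx.2.1)).map (Nz Y).subtype := fun u hu => by
      rw [mul_one]
      exact st_le_map _ hx'.2.1 hx'.2.2 (Coef.conj_st G n _ u hu)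
    rw [C.τ_comp _ _ _ _ _ _ _ hle, C.τ_comp _ _ _ _ _ _ _ hle']
    exact tau_congr' C (by rw [mul_one, one_mul]) (fun y => (st ↥(Nz Y) y).map (Nz Y).subtype) b rfl _ _
  · have h' : ¬ (st G (n • x) ∈ V ∧ X (st G (n • x)) = Y) := by
      intro h'
      apply h
      have h5 := good_smul hVi h2 ((Nz Y).inv_mem hn) h'
      rwa [inv_smul_smul] at h5
    rw [glob_supp C b x h]
    unfold pull
    rw [glob_supp C b _ h', map_zero]

theorem glob_dd {p : ℕ} [Fact p.Prime] [Finite G] (hΩ : PSet p G Ω) (h1 : ∀ P ∈ V, X P ≤ P)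
    (h2 : ∀ (g : G), ∀ P ∈ V, X (cj g P) = cj g (X P)) {k : ℕ}
    {c : ∀ x : Fin (k + 2) → Ω, C.M (st G x)}
    {b : ∀ y : Fin (k + 1) → FixPt Y Ω, C.M ((st ↥(Nz Y) y).map (Nz Y).subtype)}
    (hb : (C.restr (Nz Y)).IsCoch (W V X Y) b)
    (hcb : ∀ y, st ↥(Nz Y) y ∈ W V X Y → loc C V X Y c y = (C.restr (Nz Y)).dd b y) (x : Fin (k + 2) → Ω)
    (h : st G x ∈ V ∧ X (st G x) = Y) : c x = C.dd (glob C V X Y b) x := by
  classical
  have hx := cond_of_good h1 h2 h
  have hW : st ↥(Nz Y) (lift x hx.2.1) ∈ W V X Y := mem_W_of_good h2 _ h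
  have e := hcb _ hW
  have e1 : loc C V X Y c (lift x hx.2.1) = C.res (map_st_le Y (lift x hx.2.1)) (c x) := if_pos hW
  rw [e1] at e
  have e2 := congrArg (C.res (st_le_map x hx.2.1 hx.2.2)) (e.trans (restr_dd C b (lift x hx.2.1)))
  have e3 := ((res_self C le_rfl (c x)).symm.trans
    (res_res C (st_le_map x hx.2.1 hx.2.2) (map_st_le Y (lift x hx.2.1)) (c x)).symm).trans e2
  rw [e3]
  unfold Coef.dd
  rw [map_sum]
  refine Finset.sum_congr rfl fun i _ => ?_
  rw [map_zsmul]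
  congr 1
  rw [res_res]
  by_cases hf : st G (fun j => x (i.succAbove j)) ∈ V ∧ X (st G (fun j => x (i.succAbove j))) = Y
  · have hf' := cond_of_good h1 h2 hf
    unfold glob
    rw [dif_pos hf', res_res]
    rfl
  · have h0 : st ↥(Nz Y) (fun j => lift x hx.2.1 (i.succAbove j)) ∉ W V X Y := fun hW' =>
      hf (good_of_mem_W hΩ h2 _ hW')
    have h6 : b (fun j => lift x hx.2.1 (i.succAbove j)) = 0 := hb.supp _ h0
    rw [glob_supp C b _ hf, h6, map_zero, map_zero]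

end

/-- the conjugates -/
def cls (Y : Subgroup G) : Set (Subgroup G) := {Z | ∃ g : G, cj g Y = Z}

theorem cls_cj (g : G) (Y : Subgroup G) : cls (cj g Y) = cls Y := by
  ext Z
  constructor
  · rintro ⟨h, rfl⟩
    exact ⟨h * g, (cj_cj h g Y).symm⟩
  · rintro ⟨h, rfl⟩
    refine ⟨h * g⁻¹, ?_⟩
    rw [cj_cj, inv_mul_cancel_right]

open Classical in
/-- an element of a set of subgroups -/
noncomputable def repOf (S : Set (Subgroup G)) : Subgroup G := if h : S.Nonempty then h.some else ⊥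

/-- the representative of the conjugacy class -/
noncomputable def rep (Y : Subgroup G) : Subgroup G := repOf (cls Y)

theorem rep_cj (g : G) (Y : Subgroup G) : rep (cj g Y) = rep Y := congrArg repOf (cls_cj g Y)

theorem exists_rep (Y : Subgroup G) : ∃ g : G, cj g Y = rep Y := by
  have h : (cls Y).Nonempty := ⟨_, 1, rfl⟩
  have h1 : rep Y = h.some := dif_pos h
  rw [h1]
  exact h.some_mem

/-- **localization** (F3) -/
theorem Coef.van_of_local {p : ℕ} [Fact p.Prime] [Finite G] (hΩ : PSet p G Ω) {V : Set (Subgroup G)}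
    (hVi : IsInv V) (X : Subgroup G → Subgroup G) (h1 : ∀ P ∈ V, X P ≤ P)
    (h2 : ∀ (g : G), ∀ P ∈ V, X (cj g P) = cj g (X P))
    (h3 : ∀ P ∈ V, ∀ Q ∈ V, P ≤ Q → X P = X Q) (n : ℕ)
    (h : ∀ P ∈ V, (C.restr (Nz (X P))).Van (FixPt (X P) Ω)
      {Q | Q.map (Nz (X P)).subtype ∈ V ∧ X (Q.map (Nz (X P)).subtype) = X P} n) :
    C.Van Ω V n := by
  classical
  have hloc : ∀ (k : ℕ) (c : ∀ x : Fin k → Ω, C.M (st G x)), C.IsCoch V c → C.IsCoc V c → ∀ Y,
      (C.restr (Nz Y)).IsCoc (W V X Y) (loc C V X Y c) := by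
    intro k c hc hcoc Y y hy
    have e := loc_dd C hΩ h2 h3 hc y hy
    rw [hcoc _ (good_of_mem_W hΩ h2 y hy).1, map_zero] at e
    exact e
  cases n with
  | zero =>
    intro c hc hcoc x
    by_cases hx : st G x ∈ V
    · have hx' := cond_of_good (Y := X (st G x)) h1 h2 ⟨hx, rfl⟩
      have e := h _ hx (loc C V X (X (st G x)) c) (loc_coch C hVi h2 hc) (hloc 1 c hc hcoc _) (lift x hx'.2.1)
      have hW : st ↥(Nz (X (st G x))) (lift x hx'.2.1) ∈ W V X (X (st G x)) := mem_W_of_good h2 _ hx'.1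
      have e1 : loc C V X (X (st G x)) c (lift x hx'.2.1) =
        C.res (map_st_le (X (st G x)) (lift x hx'.2.1)) (c x) := if_pos hW
      have e2 := congrArg (C.res (st_le_map x hx'.2.1 hx'.2.2)) (e1.symm.trans e)
      have e3 := ((res_self C le_rfl (c x)).symm.trans
        (res_res C (st_le_map x hx'.2.1 hx'.2.2) (map_st_le _ (lift x hx'.2.1)) (c x)).symm).trans e2
      exact e3.trans (map_zero (C.res (st_le_map x hx'.2.1 hx'.2.2)))
    · exact hc.supp x hx
  | succ n =>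
    intro c hc hcoc
    have key : ∀ Y : Subgroup G, ∃ β : ∀ x : Fin (n + 1) → Ω, C.M (st G x), (∃ P ∈ V, X P = Y) →
        (∀ x, ¬ (st G x ∈ V ∧ X (st G x) = Y) → β x = 0) ∧ (∀ g ∈ Nz Y, pull C g β = β) ∧
          ∀ x : Fin (n + 2) → Ω, st G x ∈ V ∧ X (st G x) = Y → c x = C.dd β x := by
      intro Y
      by_cases hY : ∃ P ∈ V, X P = Y
      · obtain ⟨P, hP, rfl⟩ := hY
        obtain ⟨b, hb, hcb⟩ := h P hP (loc C V X (X P) c) (loc_coch C hVi h2 hc) (hloc _ c hc hcoc _)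
        exact ⟨glob C V X (X P) b, fun _ => ⟨fun x hx => glob_supp C b x hx,
          fun g hg => glob_pull C hVi h1 h2 hb hg, fun x hx => glob_dd C hΩ h1 h2 hb hcb x hx⟩⟩
      · exact ⟨fun _ => 0, fun h => absurd h hY⟩
    choose B hB using key
    choose γ hγ using exists_rep (G := G)
    let b : ∀ x : Fin (n + 1) → Ω, C.M (st G x) := fun x =>
      if st G x ∈ V then pull C (γ (X (st G x))) (B (rep (X (st G x)))) x else 0
    have hrep : ∀ P ∈ V, ∃ P' ∈ V, X P' = rep (X P) := fun P hP =>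
      ⟨cj (γ (X P)) P, hVi _ _ hP, by rw [h2 _ _ hP, hγ]⟩
    refine ⟨b, ⟨fun g x => ?_, fun x hx => if_neg hx⟩, fun x hx => ?_⟩
    · -- equivariance
      by_cases hx : st G x ∈ V
      · have hx' : st G (g • x) ∈ V := by rw [st_smul]; exact hVi _ _ hx
        have eX : X (st G (g • x)) = cj g (X (st G x)) := by rw [st_smul, h2 _ _ hx]
        have eb : b (g • x) = pull C (γ (X (st G (g • x)))) (B (rep (X (st G (g • x))))) (g • x) := if_pos hx'
        have eb' : b x = pull C (γ (X (st G x))) (B (rep (X (st G x)))) x := if_pos hx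
        rw [eb, eb', eX, rep_cj]
        have e1 := congrFun (pull_pull C g (γ (cj g (X (st G x)))) (B (rep (X (st G x))))) x
        refine Eq.trans e1 ?_
        obtain ⟨-, hpull, -⟩ := hB (rep (X (st G x))) (hrep _ hx)
        have hm : γ (cj g (X (st G x))) * g * (γ (X (st G x)))⁻¹ ∈ Nz (rep (X (st G x))) := by
          refine mem_Nz.2 ?_
          conv_lhs => rw [← hγ (X (st G x))]
          rw [cj_cj, inv_mul_cancel_right, ← cj_cj, hγ, rep_cj]
        have e2 := pull_pull C (γ (X (st G x))) (γ (cj g (X (st G x))) * g * (γ (X (st G x)))⁻¹)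
          (B (rep (X (st G x))))
        rw [hpull _ hm, inv_mul_cancel_right] at e2
        exact (congrFun e2 x).symm
      · have hx' : st G (g • x) ∉ V := by
          rw [st_smul, cj_mem_iff hVi]
          exact hx
        have eb : b (g • x) = 0 := if_neg hx'
        have eb' : b x = 0 := if_neg hx
        rw [eb, eb', map_zero]
    · -- the equation
      obtain ⟨hsupp, hpull, heq⟩ := hB (rep (X (st G x))) (hrep _ hx)
      have hfx : ∀ i, b (fun j => x (Fin.succAbove i j)) =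
          pull C (γ (X (st G x))) (B (rep (X (st G x)))) (fun j => x (Fin.succAbove i j)) := by
        intro i
        by_cases hf : st G (fun j => x (Fin.succAbove i j)) ∈ V
        · have eb : b (fun j => x (Fin.succAbove i j)) = pull C (γ (X (st G (fun j => x (Fin.succAbove i j)))))
            (B (rep (X (st G (fun j => x (Fin.succAbove i j)))))) (fun j => x (Fin.succAbove i j)) := if_pos hf
          rw [eb, ← h3 _ hx _ hf (Coef.st_succAbove_le G x i)]
        · have eb : b (fun j => x (Fin.succAbove i j)) = 0 := if_neg hf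
          rw [eb]
          unfold pull
          rw [hsupp, map_zero]
          rintro ⟨h4, -⟩
          rw [st_smul, cj_mem_iff hVi] at h4
          exact hf h4
      have e1 : C.dd b x = C.dd (pull C (γ (X (st G x))) (B (rep (X (st G x))))) x := by
        unfold Coef.dd
        refine Finset.sum_congr rfl fun i _ => ?_
        rw [hfx i]
      rw [e1, dd_pull]
      unfold pull
      rw [← heq]
      · exact (hc.equiv _ _).symm
      · rw [st_smul]
        refine ⟨hVi _ _ hx, ?_⟩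
        rw [h2 _ _ hx, hγ]

end Main

end Cfsg.Agent.H118.Lim
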